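import Groth.Agent.SGA3x.K197.RatNodes
import Groth.Agent.SGA3x.K20.TorPt
import Groth.Agent.S4132

/-!
# The generic maximal torus is a conjugate by the generic point
-/

set_option autoImplicit false
universe u
open CategoryTheory MonoidalCategory CartesianMonoidalCategory MonObj GrpObj AlgebraicGeometry Limits

namespace K198.GenTorus

open Groth.Agent Groth.Agent.Sga3 Groth.Agent.Sga3B Groth.Agent.Sga3B.RedIso Groth.Agent.Sga3.H665.Act
  Groth.Agent.RedSub.H647.SubPt Groth.Agent.Books.AffBridge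

section pt

theorem pullbackId_hom_left {X : Scheme.{u}} (Y : Over X) :
    ((Over.pullbackId (X := X)).hom.app Y).left = pullback.fst Y.hom (𝟙 X) := by
  have h := conjugateEquiv_counit (Over.mapPullbackAdj (𝟙 X)) (Adjunction.id (C := Over X))
    (Over.mapId X).inv Y
  have h2 := congrArg (fun z => z.left) h
  have h3 : ((Adjunction.id (C := Over X)).counit.app Y) = 𝟙 Y := rfl
  rw [h3] at h2
  simp only [Category.comp_id, Functor.id_obj, Over.comp_left] at h2
  have h4 : ((Over.mapId X).inv.app ((Over.pullback (𝟙 X)).obj Y)).left = 𝟙 _ := by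
    simp [Over.mapId]
  have h5 : ((Over.mapPullbackAdj (𝟙 X)).counit.app Y).left = pullback.fst Y.hom (𝟙 X) := by
    simp
  rw [h5] at h2
  refine h2.trans ?_
  refine (congrArg (· ≫ pullback.fst Y.hom (𝟙 X)) h4).trans ?_
  exact Category.id_comp _

variable {S : Scheme.{u}} {G : Over S} [GrpObj G] {𝒯 : Over S} {Tu : Over 𝒯.left} [GrpObj Tu]
  {iu : Tu ⟶ Red.bc 𝒯.hom G}

omit [GrpObj Tu] in
theorem isMaximalTorus_inv {T : Over S} [GrpObj T] (i : T ⟶ G) (hi : Red.IsMaximalTorus i) :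
    Red.IsMaximalTorus (i ≫ (und (BcIso.bcIdIso G)).inv) :=
  AlgBc.isMaximalTorus_of_arrow (Iso.refl _) (BcIso.bcIdIso G).symm (Category.id_comp _).symm hi

/-- The point of `𝒯` given by a maximal torus of `G`. -/
theorem exists_pt (h𝒯 : SGA3x.RepresentsMaxTori G 𝒯 Tu iu) (T : Over S) [GrpObj T] (i : T ⟶ G)
    (hi : Red.IsMaximalTorus i) :
    ∃ v₀ : 𝟙_ (Over S) ⟶ 𝒯, ∀ (X : Over S) (h : X ⟶ G), InTorus iu (toUnit X ≫ v₀) h ↔ ∃ b : X ⟶ T, b ≫ i = h := by
  let e : Red.bc (𝟙 S) G ≅ G := und (BcIso.bcIdIso G)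
  have he : e.hom.left = pullback.fst G.hom (𝟙 S) := by
    have h0 : e.hom = (Over.pullbackId (X := S)).hom.app G := BcNat.und_bcIdIso G
    rw [h0]
    exact pullbackId_hom_left G
  have hi' : Red.IsMaximalTorus (i ≫ e.inv) := isMaximalTorus_inv i hi
  obtain ⟨v, ⟨hv1, hv2⟩, -⟩ := existsUnique_point h𝒯 (𝟙 S) T (i ≫ e.inv) hi'
  have hinv : e.inv.left ≫ pullback.fst G.hom (𝟙 S) = 𝟙 _ := by
    rw [← he, ← Over.comp_left, e.inv_hom_id]
    rfl
  refine ⟨Over.homMk v hv1, fun X h => ?_⟩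
  rw [inTorus_iff_pt]
  have h1 : (toUnit X ≫ (Over.homMk v hv1 : 𝟙_ (Over S) ⟶ 𝒯)).left = X.hom ≫ v := by
    rw [Over.comp_left]
    rfl
  rw [h1, ← hv2]
  constructor
  · rintro ⟨p, hp1, hp2⟩
    refine ⟨Over.homMk p hp1, ?_⟩
    ext1
    change p ≫ i.left = h.left
    rw [← hp2, Over.comp_left, Category.assoc, hinv]
    exact (congrArg (p ≫ ·) (Category.comp_id i.left)).symm
  · rintro ⟨b, rfl⟩
    refine ⟨b.left, Over.w b, ?_⟩
    rw [Over.comp_left, Over.comp_left, Category.assoc, hinv]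
    exact congrArg _ (Category.comp_id _)

/-- The morphism `g ↦ g T g⁻¹`. -/
theorem exists_orbit (h𝒯 : SGA3x.RepresentsMaxTori G 𝒯 Tu iu) {r : 𝒯 ⊗ G ⟶ 𝒯} (hr : IsAct iu r)
    (T : Over S) [GrpObj T] (i : T ⟶ G) (hi : Red.IsMaximalTorus i) :
    ∃ (v₀ : 𝟙_ (Over S) ⟶ 𝒯) (α : G ⟶ 𝒯), (∀ (X : Over S) (g : X ⟶ G), g ≫ α = lift (toUnit X ≫ v₀) g⁻¹ ≫ r) ∧
      ∀ (X : Over S) (g h : X ⟶ G), InTorus iu (g ≫ α) h ↔ ∃ b : X ⟶ T, h = g * (b ≫ i) * g⁻¹ := by
  obtain ⟨v₀, hv₀⟩ := exists_pt h𝒯 T i hi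
  have key : ∀ (X : Over S) (g : X ⟶ G), g ≫ lift (toUnit G ≫ v₀) (𝟙 G)⁻¹ ≫ r = lift (toUnit X ≫ v₀) g⁻¹ ≫ r := by
    intro X g
    rw [← Category.assoc, comp_lift, GrpObj.comp_inv, Category.comp_id, ← Category.assoc, comp_toUnit]
  refine ⟨v₀, lift (toUnit G ≫ v₀) (𝟙 G)⁻¹ ≫ r, key, fun X g h => ?_⟩
  rw [key, hr.inTorus_iff, hv₀]
  refine exists_congr fun b => ?_
  rw [_root_.inv_inv]
  constructor
  · intro h1
    rw [h1]
    group
  · rintro rfl
    group

end pt

section field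

variable {k : Type u} [Field k] {G : Over (Spec (CommRingCat.of k))} [GrpObj G] [Smooth G.hom]
  [QuasiCompact G.hom] {𝒯 : Over (Spec (CommRingCat.of k))} {Tu : Over 𝒯.left} [GrpObj Tu]
  {iu : Tu ⟶ Red.bc 𝒯.hom G}

/-- The orbit of a maximal torus is dense. -/
theorem closure_range [ConnectedSpace G.left] [LocallyOfFiniteType 𝒯.hom]
    (h𝒯 : SGA3x.RepresentsMaxTori G 𝒯 Tu iu) {r : 𝒯 ⊗ G ⟶ 𝒯} (hr : IsAct iu r) (v₀ : 𝟙_ (Over _) ⟶ 𝒯) (α : G ⟶ 𝒯)
    (hα : ∀ (X : Over _) (g : X ⟶ G), g ≫ α = lift (toUnit X ≫ v₀) g⁻¹ ≫ r) :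
    closure (Set.range α.left) = Set.univ := by
  let K := AlgebraicClosure k
  have hbc : TorBc G := fun q => H665.TorBcNA.torBc G q
  have hu : Set.range (𝟙 G : G ⟶ G).left = connectedComponent (Books.AlgPts.pt η[G]) := by
    rw [PreconnectedSpace.connectedComponent_eq_univ, Over.id_left]
    exact Set.range_eq_univ.2 fun x => ⟨x, rfl⟩
  have hJ : JacobsonSpace 𝒯.left := LocallyOfFiniteType.jacobsonSpace 𝒯.hom
  have hcl : closedPoints 𝒯.left ⊆ Set.range α.left := by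
    intro x hx
    obtain ⟨w, hw⟩ := K20.TorPt.exists_geom_point K x hx
    have hoi : IsOpenImmersion (𝟙 G : G ⟶ G).left := by rw [Over.id_left]; infer_instance
    obtain ⟨g, hg⟩ := H830.Trans3.exists_act_eq_neutral (𝟙 G) h𝒯 hbc hr hu (toUnit _ ≫ v₀) w
    have h2 : g⁻¹ ≫ α = w := by
      rw [hα, _root_.inv_inv, ← hg, Category.comp_id]
    rw [← hw, ← h2, Over.comp_left]
    exact ⟨_, (Scheme.Hom.comp_apply _ _ _).symm⟩
  exact Set.univ_subset_iff.1 ((closure_closedPoints (X := 𝒯.left)).symm.subset.trans (closure_mono hcl))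

end field

/-- A field valued point at the point `p` factors through the residue field of `p`. -/
theorem exists_residue {X : Scheme.{u}} {K : Type u} [Field K] (ψ : Spec (CommRingCat.of K) ⟶ X) (p : X)
    (h : ψ (IsLocalRing.closedPoint K) = p) :
    ∃ β : X.residueField p ⟶ CommRingCat.of K, ψ = Spec.map β ≫ X.fromSpecResidueField p := by
  subst h
  exact ⟨_, (Scheme.descResidueField_stalkClosedPointTo_fromSpecResidueField K X ψ).symm⟩

theorem locallyOfFiniteType {k : Type u} [Field k] {G : Over (Spec (CommRingCat.of k))} [GrpObj G] [Smooth G.hom]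
    [IsAffineHom G.hom] {𝒯 : Over (Spec (CommRingCat.of k))} {Tu : Over 𝒯.left} [GrpObj Tu]
    {iu : Tu ⟶ Red.bc 𝒯.hom G} (h𝒯 : SGA3x.RepresentsMaxTori G 𝒯 Tu iu) (T : Over (Spec (CommRingCat.of k)))
    [GrpObj T] (i : T ⟶ G) (hi : Red.IsMaximalTorus i) : LocallyOfFiniteType 𝒯.hom := by
  have hbc : TorBc G := fun q => H665.TorBcNA.torBc G q
  have hG : SGA3x.HasMaxTorusFpqcLocally G := by
    refine ⟨_, 𝟙 _, inferInstance, inferInstance, fun V hV => ⟨V, hV.isCompact, ?_⟩, T, inferInstance, _,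
      isMaximalTorus_inv i hi⟩
    simp
  obtain ⟨𝒯', Tu', _, iu', h', h1, -, -⟩ := S4132.result _ G hG
  obtain ⟨e, -⟩ := exists_iso h𝒯 hbc h'
  have h2 : e.hom.left ≫ 𝒯'.hom = 𝒯.hom := Over.w e.hom
  rw [← h2]
  infer_instance

theorem closure_frac (A : Type u) [CommRing A] [IsDomain A] :
    closure {(Spec.map (CommRingCat.ofHom (algebraMap A (FractionRing A))))
      (IsLocalRing.closedPoint (FractionRing A))} = (Set.univ : Set (Spec (CommRingCat.of A))) := by
  have h1 : ((Spec.map (CommRingCat.ofHom (algebraMap A (FractionRing A))))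
      (IsLocalRing.closedPoint (FractionRing A)) : PrimeSpectrum A).asIdeal = ⊥ := by
    change Ideal.comap (algebraMap A (FractionRing A)) (IsLocalRing.maximalIdeal (FractionRing A)) = ⊥
    rw [IsLocalRing.isField_iff_maximalIdeal_eq.1 (Field.toIsField _)]
    exact (RingHom.injective_iff_ker_eq_bot _).1 (IsFractionRing.injective A (FractionRing A))
  refine (PrimeSpectrum.closure_singleton _).trans ?_
  rw [h1]
  exact PrimeSpectrum.zeroLocus_bot

theorem main : K197.Rat.N5_generic.{u} := by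
  intro k A _ _ _ _ _ 𝒯 Tu _ iu h𝒯 T _ i hi F _ _ x hx hxk hgen
  let G := SpecOver k A
  have hirr : IrreducibleSpace G.left := inferInstanceAs (IrreducibleSpace (Spec (CommRingCat.of A)))
  have hft : LocallyOfFiniteType 𝒯.hom := locallyOfFiniteType h𝒯 T i hi
  have hbc : TorBc G := fun q => H665.TorBcNA.torBc G q
  obtain ⟨r, hr⟩ := exists_isAct h𝒯 hbc
  obtain ⟨v₀, α, hα1, hα2⟩ := exists_orbit h𝒯 hr T i hi
  have hcl := closure_range h𝒯 hr v₀ α hα1
  let q : Spec (CommRingCat.of (FractionRing A)) ⟶ G.left :=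
    Spec.map (CommRingCat.ofHom (algebraMap A (FractionRing A)))
  have hq : closure {q (IsLocalRing.closedPoint (FractionRing A))} = (Set.univ : Set G.left) := closure_frac A
  obtain ⟨p, φ₀, hx'⟩ := hx
  have hxp : x (IsLocalRing.closedPoint F) = p := by
    rw [hx', Scheme.Hom.comp_apply, Scheme.fromSpecResidueField_apply]
  rw [hxp] at hgen
  have hψ : (q ≫ α.left) (IsLocalRing.closedPoint (FractionRing A)) = p := by
    refine IsGenericPoint.eq (S := Set.univ) ?_ hgen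
    rw [isGenericPoint_def, ← Set.univ_subset_iff, ← hcl, Scheme.Hom.comp_apply]
    refine closure_minimal ?_ isClosed_closure
    rw [← Set.image_univ, ← hq]
    refine (image_closure_subset_closure_image α.left.continuous).trans ?_
    rw [Set.image_singleton]
  obtain ⟨β, hβ⟩ := exists_residue (q ≫ α.left) p hψ
  let φ : F →+* FractionRing A := (φ₀.inv ≫ β).hom
  have hφ : Spec.map (CommRingCat.ofHom φ) ≫ x = q ≫ α.left := by
    have h1 : CommRingCat.ofHom φ = φ₀.inv ≫ β := rfl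
    rw [h1, hx', hβ, ← Category.assoc, ← Spec.map_comp, Iso.hom_inv_id_assoc]
  have hφk : ∀ c : k, φ (algebraMap k F c) = algebraMap k (FractionRing A) c := by
    have h1 : Spec.map (CommRingCat.ofHom (φ.comp (algebraMap k F))) =
        Spec.map (CommRingCat.ofHom (algebraMap k (FractionRing A))) := by
      have h2 : Spec.map (CommRingCat.ofHom φ) ≫ K197.Rat.bs k F = q ≫ G.hom := by
        rw [← hxk, ← Category.assoc, hφ, Category.assoc, Over.w α]
      have h3 : q ≫ G.hom = Spec.map (CommRingCat.ofHom (algebraMap k (FractionRing A))) := by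
        change Spec.map _ ≫ Spec.map _ = _
        rw [← Spec.map_comp, ← CommRingCat.ofHom_comp, ← IsScalarTower.algebraMap_eq]
      rw [← h3, ← h2, ← Spec.map_comp, ← CommRingCat.ofHom_comp]
    intro c
    have h4 := Spec.map_injective h1
    exact congr($(h4).hom c)
  refine ⟨{ φ with commutes' := hφk }, fun X g h ω hω => ?_⟩
  rw [← hα2 X g h]
  have h3 : (g ≫ α).left = ω ≫ Spec.map (CommRingCat.ofHom φ) ≫ x := by
    rw [hφ, Over.comp_left, ← hω]
    exact Category.assoc ω q α.left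
  change _ ↔ ∃ t : X.left ⟶ Tu.left, t ≫ Tu.hom = (g ≫ α).left ∧ t ≫ iu.left ≫ pullback.fst G.hom 𝒯.hom = h.left
  rw [h3]

end K198.GenTorus
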