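import Groth.Agent.SGA3x.K198.RatReg
import Mathlib.FieldTheory.IntermediateField.Adjoin.Basic

/-!
# The node `P3_trans`
-/

set_option autoImplicit false
universe u
open Coalgebra WithConv K197.Rat

namespace K198.RatTrans

open K198.RatSpan K198.RatCoor K198.RatSect K198.RatReg

noncomputable section

variable {k A : Type u} [Field k] [CommRing A] [IsDomain A] [HopfAlgebra k A]
  {W₀ : Submodule k (Cv k A k)} {h q : ℕ} (c : Coor W₀ h q) (X₀ : Cv k A k)
  {F : Type u} [Field F] [Algebra k F] [Algebra F (FractionRing A)] [IsScalarTower k F (FractionRing A)]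
  {W : Submodule F (Cv k A F)}

/-- `W` is the conjugate of `W₀` by the generic point -/
abbrev Conj (W₀ : Submodule k (Cv k A k)) (W : Submodule F (Cv k A F)) : Prop :=
  ∀ D : Cv k A (FractionRing A), D ∈ spanUp F (FractionRing A) W ↔
    ∃ D' ∈ spanUp k (FractionRing A) W₀, D = Ad (gn k A) D'

/-- the coordinates `x` are injective on the conjugate -/
lemma zero_of_x (hW₀ : ∀ D ∈ W₀, IsDer D) (hc : Conj W₀ W) {D : Cv k A (FractionRing A)}
    (hD : D ∈ spanUp F (FractionRing A) W) (h0 : ∀ j, D (c.x j) = 0) : D = 0 := by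
  obtain ⟨D', hD', rfl⟩ := (hc D).1 hD
  rw [eq_zero_of_coord c hW₀ hD' h0, Ad_zero]

lemma zero_of_x' (hW₀ : ∀ D ∈ W₀, IsDer D) (hc : Conj W₀ W) {w : Cv k A F} (hw : w ∈ W)
    (h0 : ∀ j, w (c.x j) = 0) : w = 0 := by
  apply up_injective (R := FractionRing A) (algebraMap F (FractionRing A)).injective
  rw [up_zero]
  refine zero_of_x c hW₀ hc (up_mem hw) fun j => ?_
  rw [up_apply, h0, map_zero]

lemma finrank_W [Algebra.FiniteType k A] (hW₀ : ∀ D ∈ W₀, IsDer D) (hW : ∀ D ∈ W, IsDer D) (hc : Conj W₀ W) :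
    Module.finrank F W = Module.finrank k W₀ := by
  have h1 : FiniteDimensional F W := finiteDimensional_of_le hW
  have h2 : FiniteDimensional k W₀ := finiteDimensional_of_le hW₀
  rw [← finrank_spanUp (R := FractionRing A) (W := W), ← finrank_spanUp (R := FractionRing A) (W := W₀)]
  exact finrank_Ad _ _ _ hc

/-- the point of `W` over the point `X₀` of the section -/
theorem exists_y [Algebra.FiniteType k A] (hW₀ : ∀ D ∈ W₀, IsDer D) (hW : ∀ D ∈ W, IsDer D) (hc : Conj W₀ W)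
    (hh : h = Module.finrank k W₀) : ∃ y ∈ W, ∀ j, y (c.x j) = algebraMap k F (X₀ (c.x j)) := by
  have h1 : FiniteDimensional F W := finiteDimensional_of_le hW
  let L : W →ₗ[F] (Fin h → F) := LinearMap.pi fun j => (evD (k := k) (E := F) (c.x j)).comp W.subtype
  have hL : Function.Injective L := by
    rw [injective_iff_map_eq_zero]
    intro w hw
    apply Subtype.ext
    exact zero_of_x' c hW₀ hc w.2 fun j => congrFun hw j
  have hd : Module.finrank F W = Module.finrank F (Fin h → F) := by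
    rw [finrank_W hW₀ hW hc, Module.finrank_fin_fun, hh]
  have hs := (LinearMap.injective_iff_surjective_of_finrank_eq_finrank hd).1 hL
  obtain ⟨y, hy⟩ := hs (fun j => algebraMap k F (X₀ (c.x j)))
  exact ⟨y.1, y.2, fun j => congrFun hy j⟩

/-- The conjugate of `YA` by the generic point. -/
theorem Ad_gn_YA (hW₀ : ∀ D ∈ W₀, IsDer D) (hc : Conj W₀ W)
    {y : Cv k A F} (hy : y ∈ W) (hyx : ∀ j, y (c.x j) = algebraMap k F (X₀ (c.x j))) :
    Ad (gn k A) (cvMap (io k A) (YA c X₀)) = algebraMap A (FractionRing A) (M c).det • up F (FractionRing A) y := by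
  rw [← sub_eq_zero]
  refine zero_of_x c hW₀ hc (Submodule.sub_mem _ ((hc _).2 ⟨_, mem_YA c X₀ _, rfl⟩)
    (Submodule.smul_mem _ _ (up_mem hy))) fun j => ?_
  have h1 := cvMap_Ad_un (io k A) (YA c X₀)
  rw [sub_apply', smul_apply', up_apply, hyx, ← IsScalarTower.algebraMap_apply, ← h1, cvMap_apply, Ad_YA]
  change algebraMap A (FractionRing A) _ - _ = 0
  rw [map_mul, ← IsScalarTower.algebraMap_apply, mul_comm, sub_self]

/-- **Regularity of `y`.** -/
theorem mem_of_lie (hW₀ : ∀ D ∈ W₀, IsDer D) (hsub : ∀ x ∈ W₀, ∀ y ∈ W₀, ⁅x, y⁆ ∈ W₀) (hX₀ : X₀ ∈ W₀)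
    (hreg : ∀ D : Cv k A k, IsDer D → ⁅X₀, D⁆ ∈ W₀ → D ∈ W₀) (hc : Conj W₀ W)
    {y : Cv k A F} (hy : y ∈ W) (hyx : ∀ j, y (c.x j) = algebraMap k F (X₀ (c.x j)))
    {D : Cv k A F} (hD : IsDer D) (h1 : ⁅y, D⁆ ∈ W) : D ∈ W := by
  apply mem_of_up_mem (R := FractionRing A)
  obtain ⟨D', hD', h2⟩ := (hc _).1 (up_mem (R := FractionRing A) h1)
  refine (hc _).2 ⟨Ad (gn k A)⁻¹ (up F (FractionRing A) D), ?_, (Ad_Ad_inv _ _).symm⟩
  refine mem_of_lie_mem c X₀ hW₀ hsub hX₀ hreg (hD.up.conj _) ?_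
  have h3 : cvMap (io k A) (YA c X₀) =
      algebraMap A (FractionRing A) (M c).det • Ad (gn k A)⁻¹ (up F (FractionRing A) y) := by
    rw [← Ad_smul, ← Ad_gn_YA c X₀ hW₀ hc hy hyx, Ad_inv_Ad]
  rw [h3, smul_lie', ← Ad_lie, ← up_lie, h2, Ad_inv_Ad]
  exact Submodule.smul_mem _ _ hD'

theorem mem_of_adn (hW₀ : ∀ D ∈ W₀, IsDer D) (hsub : ∀ x ∈ W₀, ∀ y ∈ W₀, ⁅x, y⁆ ∈ W₀) (hX₀ : X₀ ∈ W₀)
    (hreg : ∀ D : Cv k A k, IsDer D → ⁅X₀, D⁆ ∈ W₀ → D ∈ W₀) (hc : Conj W₀ W) (hW : ∀ D ∈ W, IsDer D)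
    {y : Cv k A F} (hy : y ∈ W) (hyx : ∀ j, y (c.x j) = algebraMap k F (X₀ (c.x j))) (n : ℕ) :
    ∀ {D : Cv k A F}, IsDer D → adn y n D ∈ W → D ∈ W := by
  induction n with
  | zero => intro D _ h1; exact h1
  | succ n ih =>
    intro D hD h1
    exact mem_of_lie c X₀ hW₀ hsub hX₀ hreg hc hy hyx hD (ih ((hW y hy).comm hD) h1)

/-- the iterated bracket with `y` kills `W` -/
theorem adn_zero_of_mem {m : ℕ} (hnil : ∀ Y ∈ W₀, Kill (W₀ : Set (Cv k A k)) m Y) (hc : Conj W₀ W)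
    {y : Cv k A F} (hy : y ∈ W) {w : Cv k A F} (hw : w ∈ W) : adn y m w = 0 := by
  apply up_injective (R := FractionRing A) (algebraMap F (FractionRing A)).injective
  rw [up_zero, up_adn]
  obtain ⟨D', hD', h2⟩ := (hc _).1 (up_mem (R := FractionRing A) hw)
  have h3 := kill_Ad (gn k A) (P := (spanUp k (FractionRing A) W₀ : Set _))
    (Q := (spanUp F (FractionRing A) W : Set _)) hc m D' (kill_spanUp m hnil hD')
  rw [← h2] at h3
  exact adn_of_kill (up_mem (R := FractionRing A) hy) m _ h3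

/-- generators of an adjoin, inside -/
lemma adjoin_range_top {ι : Type*} (s : ι → F) (K' : IntermediateField k F)
    (hK : K' = IntermediateField.adjoin k (Set.range s)) (v : ι → K') (hv : ∀ i, (v i : F) = s i) :
    IntermediateField.adjoin k (Set.range v) = ⊤ := by
  apply IntermediateField.lift_injective K'
  rw [IntermediateField.lift_adjoin, IntermediateField.lift_top]
  conv_rhs => rw [hK]
  congr 1
  rw [← Set.range_comp]
  congr 1
  funext i
  exact hv i

/-- `W'` -/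
def WP {K : Type u} [Field K] [Algebra k K] (y : Cv k A K) (m : ℕ) : Submodule K (Cv k A K) where
  carrier := {D | IsDer D ∧ adn y m D = 0}
  add_mem' h h' := ⟨h.1.add h'.1, by rw [adn_add, h.2, h'.2, add_zero]⟩
  zero_mem' := ⟨isDer_zero, adn_of_zero _ _⟩
  smul_mem' r D h := ⟨h.1.smul r, by rw [adn_smul, h.2, smul_zero]⟩

/-- **The node `P3`.** -/
theorem main : P3_trans.{u} := by
  intro k A _ _ _ _ _ W₀ hW₀ hsub m hnil X₀ hX₀ hreg F _ _ _ _ W hW hc
  obtain ⟨q, hq, ⟨c⟩⟩ := exists_coor W₀ hW₀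
  obtain ⟨y, hy, hyx⟩ := exists_y c X₀ hW₀ hW hc rfl
  let s : Fin q → F := fun i => y (c.z i)
  let K' : IntermediateField k F := IntermediateField.adjoin k (Set.range s)
  let v : Fin q → K' := fun i => ⟨s i, IntermediateField.subset_adjoin _ _ ⟨i, rfl⟩⟩
  let y' : Cv k A K' := up k K' X₀ + ∑ i, v i • up k K' (c.v i)
  have hy' : up K' F y' = y := by
    have h1 : X₀ = ∑ j, X₀ (c.x j) • c.b j := c.dec_of_mem (R := k) hW₀ (up_mem (R := k) hX₀)
    have h2 : (up k F X₀ : Cv k A F) = ∑ j, algebraMap k F (X₀ (c.x j)) • up k F (c.b j) := by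
      conv_lhs => rw [h1, up_sum]
      exact Finset.sum_congr rfl fun j _ => up_smul _ _
    conv_rhs => rw [c.dec F y (hW y hy)]
    simp_rw [hyx]
    rw [← h2, up_add, up_sum]
    congr 1
  have hyD : IsDer y' := by
    refine (hW₀ X₀ hX₀).up.add (isDer_sum _ _ fun i _ => (c.hv i).up.smul _)
  have hinj : Function.Injective (up K' F : Cv k A K' → Cv k A F) := up_injective (algebraMap K' F).injective
  have hWP : spanUp K' F (WP y' m) = W := by
    apply le_antisymm
    · refine Submodule.span_le.2 ?_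
      rintro _ ⟨Z, hZ, rfl⟩
      refine mem_of_adn c X₀ hW₀ hsub hX₀ hreg hc hW hy hyx m hZ.1.up ?_
      rw [← hy', ← up_adn, hZ.2, up_zero]
      exact W.zero_mem
    · intro w hw
      obtain ⟨n, r, e, he⟩ := exists_decomp (F := K') (hW w hw)
      rw [he]
      refine Submodule.sum_mem _ fun j _ => Submodule.smul_mem _ _ (up_mem ⟨(hW w hw).clin _, ?_⟩)
      rw [← clin_adn, hy', adn_zero_of_mem hnil hc hy hw, map_zero]
  have hder : ∀ D ∈ WP y' m, IsDer D := fun D hD => hD.1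
  have hfin : FiniteDimensional K' (WP y' m) := finiteDimensional_of_le hder
  refine ⟨q, K', v, WP y' m, adjoin_range_top s K' rfl v fun i => rfl, hq, hder, ?_, hWP, ?_⟩
  · rw [← finrank_W hW₀ hW hc, ← finrank_spanUp (R := F) (W := WP y' m), hWP]
  · intro D hD hst
    have h1 : y' ∈ WP y' m := by
      refine ⟨hyD, hinj ?_⟩
      rw [up_adn, hy', up_zero, adn_zero_of_mem hnil hc hy hy]
    have h2 := (hst y' h1).2
    have h3 : ⁅y', D⁆ = -⁅D, y'⁆ := (lie_skew _ _).symm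
    have h4 : adn y' (m + 1) D = 0 := by
      rw [adn_succ, h3, ← neg_one_smul K', adn_smul, h2, smul_zero]
    have h5 : up K' F D ∈ W := by
      refine mem_of_adn c X₀ hW₀ hsub hX₀ hreg hc hW hy hyx (m + 1) hD.up ?_
      rw [← hy', ← up_adn, h4, up_zero]
      exact W.zero_mem
    refine ⟨hD, hinj ?_⟩
    rw [up_adn, hy', up_zero, adn_zero_of_mem hnil hc hy h5]

end

end K198.RatTrans
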