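import Groth.Agent.SGA3x.K198.RatSpan

/-!
# Coordinates on the Lie algebra adapted to a subspace
-/

set_option autoImplicit false
universe u
open Coalgebra WithConv K197.Rat

namespace K198.RatCoor

open K198.RatSpan

noncomputable section

variable {k A : Type u} [Field k] [CommRing A] [HopfAlgebra k A]

/-- Coordinates `x`, `z` on the Lie algebra, dual to a basis `b`, `v` with `b` a basis of `W₀`. -/
structure Coor (W₀ : Submodule k (Cv k A k)) (h q : ℕ) where
  b : Fin h → Cv k A k
  v : Fin q → Cv k A k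
  x : Fin h → A
  z : Fin q → A
  hb : ∀ j, b j ∈ W₀
  hv : ∀ i, IsDer (v i)
  hz : ∀ w ∈ W₀, ∀ i, w (z i) = 0
  bx : ∀ j j', b j (x j') = if j = j' then 1 else 0
  vx : ∀ i j, v i (x j) = 0
  vz : ∀ i i', v i (z i') = if i = i' then 1 else 0
  dec : ∀ (R : Type u) [CommRing R] [Algebra k R] (D : Cv k A R), IsDer D →
    D = ∑ j, D (x j) • up k R (b j) + ∑ i, D (z i) • up k R (v i)

/-- Dual coordinates of a basis. -/
theorem exists_dual [Algebra.FiniteType k A] {ι : Type} [Fintype ι] [DecidableEq ι]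
    (B : Module.Basis ι k (Der k A k)) :
    ∃ y : ι → A, (∀ (D : Cv k A k) (hD : IsDer D) (i : ι), D (y i) = B.coord i ⟨D, hD⟩) ∧
      ∀ (R : Type u) [CommRing R] [Algebra k R] (D : Cv k A R), IsDer D →
        D = ∑ i, D (y i) • up k R (B i).1 := by
  obtain ⟨n, e, x, he, hex, hdec⟩ := exists_coord (k := k) (A := A)
  let c : ι → Fin n → k := fun i l => B.coord i ⟨e l, he l⟩
  have hy : ∀ (R : Type u) [CommRing R] [Algebra k R] (D : Cv k A R) (i : ι),
      D (∑ l, c i l • x l) = ∑ l, algebraMap k R (c i l) * D (x l) := by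
    intro R _ _ D i
    change D.ofConv _ = _
    rw [map_sum]
    refine Finset.sum_congr rfl fun l _ => ?_
    rw [map_smul, Algebra.smul_def]
  refine ⟨fun i => ∑ l, c i l • x l, fun D hD i => ?_, fun R _ _ D hD => ?_⟩
  · rw [hy]
    have h1 : (⟨D, hD⟩ : Der k A k) = ∑ l, D (x l) • (⟨e l, he l⟩ : Der k A k) := by
      apply Subtype.ext
      rw [Submodule.coe_sum]
      exact hdec k D hD
    rw [h1, map_sum]
    refine Finset.sum_congr rfl fun l _ => ?_
    rw [map_smul, smul_eq_mul, mul_comm]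
    rfl
  · have h1 : ∀ l, (up k R (e l) : Cv k A R) = ∑ i, algebraMap k R (c i l) • up k R (B i).1 := by
      intro l
      have h2 : e l = ∑ i, c i l • (B i).1 := by
        have h3 := congrArg Subtype.val (B.sum_repr ⟨e l, he l⟩)
        rw [Submodule.coe_sum] at h3
        exact h3.symm
      conv_lhs => rw [h2, up_sum]
      exact Finset.sum_congr rfl fun i _ => up_smul _ _
    conv_lhs => rw [hdec R D hD]
    simp_rw [h1, Finset.smul_sum, smul_smul, hy, Finset.sum_smul]
    rw [Finset.sum_comm]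
    refine Finset.sum_congr rfl fun i _ => Finset.sum_congr rfl fun l _ => ?_
    rw [mul_comm]

/-- Adapted coordinates exist. -/
theorem exists_coor [Algebra.FiniteType k A] (W₀ : Submodule k (Cv k A k)) (hW₀ : ∀ D ∈ W₀, IsDer D) :
    ∃ q : ℕ, Module.finrank k (Der k A k) = Module.finrank k W₀ + q ∧
      Nonempty (Coor W₀ (Module.finrank k W₀) q) := by
  classical
  have hle : W₀ ≤ Der k A k := hW₀
  let p : Submodule k (Der k A k) := W₀.submoduleOf (Der k A k)
  let e₀ : p ≃ₗ[k] W₀ := Submodule.submoduleOfEquivOfLe hle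
  have hp : Module.finrank k p = Module.finrank k W₀ := e₀.finrank_eq
  obtain ⟨C, hC⟩ := p.exists_isCompl
  have hfin : FiniteDimensional k W₀ := Submodule.finiteDimensional_of_le hle
  let bW := Module.finBasis k W₀
  let bp : Module.Basis (Fin (Module.finrank k W₀)) k p := bW.map e₀.symm
  have hCf : Module.Free k C := Module.Free.of_divisionRing k C
  have hCfin : Module.Finite k C := inferInstance
  let bC := Module.finBasis k C
  let B : Module.Basis (Fin (Module.finrank k W₀) ⊕ Fin (Module.finrank k C)) k (Der k A k) :=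
    (bp.prod bC).map (Submodule.prodEquivOfIsCompl p C hC)
  obtain ⟨y, hy1, hy2⟩ := exists_dual B
  have hBl : ∀ j, (B (Sum.inl j)).1 = (bW j).1 := by
    intro j
    simp [B, bp, e₀]
    rfl
  have hB : ∀ a b, (B a).1 (y b) = if a = b then 1 else 0 := by
    intro a b
    rw [hy1 (B a).1 (B a).2 b]
    change B.coord b (B a) = _
    rw [Module.Basis.coord_apply, Module.Basis.repr_self, Finsupp.single_apply]
  refine ⟨Module.finrank k C, ?_, ⟨⟨fun j => (bW j).1, fun i => (B (Sum.inr i)).1, fun j => y (Sum.inl j),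
    fun i => y (Sum.inr i), fun j => (bW j).2, fun i => (B (Sum.inr i)).2, ?_, ?_, ?_, ?_, ?_⟩⟩⟩
  · rw [Module.finrank_eq_card_basis B, Fintype.card_sum, Fintype.card_fin, Fintype.card_fin]
  · intro w hw i
    have h1 : w = ∑ j, bW.repr ⟨w, hw⟩ j • (bW j).1 := by
      have h3 := congrArg Subtype.val (bW.sum_repr ⟨w, hw⟩)
      rw [Submodule.coe_sum] at h3
      exact h3.symm
    rw [h1, K197.Rat.sum_apply]
    refine Finset.sum_eq_zero fun j _ => ?_
    rw [smul_apply', ← hBl, hB, if_neg (by simp), mul_zero]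
  · intro j j'
    rw [← hBl, hB]
    simp
  · intro i j
    rw [hB, if_neg (by simp)]
  · intro i i'
    rw [hB]
    simp
  · intro R _ _ D hD
    conv_lhs => rw [hy2 R D hD, Fintype.sum_sum_type]
    simp_rw [hBl]

variable {W₀ : Submodule k (Cv k A k)} {h q : ℕ} (c : Coor W₀ h q) {R : Type u} [CommRing R] [Algebra k R]

theorem Coor.zero_of_mem {D : Cv k A R} (hD : D ∈ spanUp k R W₀) (i : Fin q) : D (c.z i) = 0 := by
  have h1 : spanUp k R W₀ ≤ LinearMap.ker (evD (k := k) (E := R) (c.z i)) := by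
    refine Submodule.span_le.2 ?_
    rintro _ ⟨Z, hZ, rfl⟩
    change algebraMap k R (Z (c.z i)) = 0
    rw [c.hz Z hZ, map_zero]
  exact h1 hD

/-- membership in the extended subspace, in coordinates -/
theorem Coor.mem_iff {D : Cv k A R} (hD : IsDer D) : D ∈ spanUp k R W₀ ↔ ∀ i, D (c.z i) = 0 := by
  constructor
  · exact fun h1 i => c.zero_of_mem h1 i
  · intro h1
    rw [c.dec R D hD]
    refine Submodule.add_mem _ ?_ ?_
    · exact Submodule.sum_mem _ fun j _ => Submodule.smul_mem _ _ (up_mem (c.hb j))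
    · refine Submodule.sum_mem _ fun i _ => ?_
      rw [h1, zero_smul]
      exact Submodule.zero_mem _

theorem Coor.dec_of_mem (hW₀ : ∀ D ∈ W₀, IsDer D) {D : Cv k A R} (hD : D ∈ spanUp k R W₀) :
    D = ∑ j, D (c.x j) • up k R (c.b j) := by
  conv_lhs => rw [c.dec R D (isDer_of_mem hW₀ hD)]
  have h1 : ∑ i, D (c.z i) • up k R (c.v i) = 0 :=
    Finset.sum_eq_zero fun i _ => by rw [c.zero_of_mem hD, zero_smul]
  rw [h1, add_zero]

/-- the extended subspace is closed under brackets -/
theorem lie_mem {E : Type u} [Field E] [Algebra k E] [Algebra E R] [IsScalarTower k E R]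
    {W : Submodule E (Cv k A E)} (hsub : ∀ x ∈ W, ∀ y ∈ W, ⁅x, y⁆ ∈ W) {D D' : Cv k A R}
    (hD : D ∈ spanUp E R W) (hD' : D' ∈ spanUp E R W) : ⁅D, D'⁆ ∈ spanUp E R W := by
  induction hD using Submodule.span_induction with
  | mem x hx =>
    obtain ⟨Z, hZ, rfl⟩ := hx
    induction hD' using Submodule.span_induction with
    | mem x hx =>
      obtain ⟨Z', hZ', rfl⟩ := hx
      rw [← up_lie]
      exact up_mem (hsub Z hZ Z' hZ')
    | zero => rw [lie_zero]; exact Submodule.zero_mem _
    | add x y _ _ ihx ihy => rw [lie_add]; exact Submodule.add_mem _ ihx ihy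
    | smul r x _ ih => rw [lie_smul']; exact Submodule.smul_mem _ _ ih
  | zero => rw [zero_lie]; exact Submodule.zero_mem _
  | add x y _ _ ihx ihy => rw [add_lie]; exact Submodule.add_mem _ ihx ihy
  | smul r x _ ih => rw [smul_lie']; exact Submodule.smul_mem _ _ ih

end

end K198.RatCoor
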