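import Groth.Agent.SGA3x.K198.RatSect

/-!
# The linear section: the regular element over the field of definition
-/

set_option autoImplicit false
universe u
open Coalgebra WithConv K197.Rat

namespace K198.RatReg

open K198.RatSpan K198.RatCoor K198.RatSect

noncomputable section

variable {k A : Type u} [Field k] [CommRing A] [IsDomain A] [HopfAlgebra k A]
  {W₀ : Submodule k (Cv k A k)} {h q : ℕ} (c : Coor W₀ h q) (X₀ : Cv k A k)

/-- the inclusion in the function field -/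
abbrev io (k A : Type u) [Field k] [CommRing A] [IsDomain A] [HopfAlgebra k A] : A →ₐ[k] FractionRing A :=
  IsScalarTower.toAlgHom k A (FractionRing A)

/-- the coefficients of `YA` -/
def rr : Fin h → A := Matrix.vecMul (fun j => algebraMap k A (X₀ (c.x j))) (M c).adjugate

/-- the universal element of the linear section, up to the determinant, before the conjugation -/
def YA : Cv k A A := ∑ j, rr c X₀ j • up k A (c.b j)

omit [IsDomain A] in
lemma Ad_YA (j' : Fin h) : (Ad (un k A) (YA c X₀)) (c.x j') = algebraMap k A (X₀ (c.x j')) * (M c).det := by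
  rw [YA, Ad_sum, eval_sum]
  change Matrix.vecMul (rr c X₀) (M c) j' = _
  rw [rr, Matrix.vecMul_vecMul, Matrix.adjugate_mul, Matrix.vecMul_smul, Matrix.vecMul_one, Pi.smul_apply,
    smul_eq_mul, mul_comm]

omit [IsDomain A] in
lemma cvMap_sum {R : Type u} [CommRing R] [Algebra k R] (f : A →ₐ[k] R) :
    cvMap f (YA c X₀) = ∑ j, f (rr c X₀ j) • up k R (c.b j) := by
  rw [YA, map_sum]
  refine Finset.sum_congr rfl fun j _ => ?_
  rw [cvMap_smul, cvMap_up]

omit [IsDomain A] in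
lemma mem_YA {R : Type u} [CommRing R] [Algebra k R] (f : A →ₐ[k] R) : cvMap f (YA c X₀) ∈ spanUp k R W₀ := by
  rw [cvMap_sum]
  exact Submodule.sum_mem _ fun j _ => Submodule.smul_mem _ _ (up_mem (c.hb j))

omit [IsDomain A] in
lemma ep_rr (j : Fin h) : ep k A (rr c X₀ j) = X₀ (c.x j) := by
  have h1 : (fun j => ep k A (rr c X₀ j)) =
      Matrix.vecMul (fun j => X₀ (c.x j)) ((ep k A).mapMatrix (M c)).adjugate := by
    funext j
    have h2 := RingHom.map_vecMul (ep k A).toRingHom (M c).adjugate (fun j => algebraMap k A (X₀ (c.x j))) j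
    change ep k A (rr c X₀ j) = _ at h2
    rw [h2]
    have h3 : ((ep k A).mapMatrix (M c)).adjugate = (M c).adjugate.map (ep k A) := by
      have h4 := (ep k A).map_adjugate (M c)
      rw [← h4]
      rfl
    rw [h3]
    congr 1
    funext i
    exact (ep k A).commutes _
  have h2 := congrFun h1 j
  rw [ep_M, Matrix.adjugate_one, Matrix.vecMul_one] at h2
  exact h2

omit [IsDomain A] in
lemma ep_YA (hW₀ : ∀ D ∈ W₀, IsDer D) (hX₀ : X₀ ∈ W₀) : cvMap (ep k A) (YA c X₀) = X₀ := by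
  rw [cvMap_sum]
  simp_rw [ep_rr]
  have h1 : X₀ ∈ spanUp k k W₀ := up_mem (R := k) hX₀
  exact (c.dec_of_mem hW₀ h1).symm

/-- the matrix of the bracket with `YA` on the quotient, in coordinates -/
def N : Matrix (Fin q) (Fin q) A := fun i i' => ⁅YA c X₀, up k A (c.v i)⁆ (c.z i')

omit [IsDomain A] in
lemma map_N {R : Type u} [CommRing R] [Algebra k R] (f : A →ₐ[k] R) (i i' : Fin q) :
    f (N c X₀ i i') = ⁅cvMap f (YA c X₀), up k R (c.v i)⁆ (c.z i') := by
  have h1 := cvMap_lie f (YA c X₀) (up k A (c.v i))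
  rw [cvMap_up] at h1
  rw [← h1]
  rfl

omit [IsDomain A] in
lemma det_ep_N (hW₀ : ∀ D ∈ W₀, IsDer D) (hX₀ : X₀ ∈ W₀)
    (hreg : ∀ D : Cv k A k, IsDer D → ⁅X₀, D⁆ ∈ W₀ → D ∈ W₀) : ((ep k A).mapMatrix (N c X₀)).det ≠ 0 := by
  intro h0
  obtain ⟨a, ha, ha0⟩ := Matrix.exists_vecMul_eq_zero_iff.2 h0
  let D : Cv k A k := ∑ i, a i • c.v i
  have hD : IsDer D := isDer_sum _ _ fun i _ => (c.hv i).smul _
  have h1 : ⁅X₀, D⁆ = ∑ i, a i • ⁅X₀, c.v i⁆ := lie_sum' _ _ _ _
  have h2 : ∀ i', ⁅X₀, D⁆ (c.z i') = 0 := by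
    intro i'
    rw [h1, eval_sum]
    have h3 := congrFun ha0 i'
    rw [Pi.zero_apply] at h3
    rw [← h3]
    change _ = ∑ i, a i * ((ep k A).mapMatrix (N c X₀)) i i'
    refine Finset.sum_congr rfl fun i _ => ?_
    rw [AlgHom.mapMatrix_apply, Matrix.map_apply, map_N, ep_YA c X₀ hW₀ hX₀, up_self]
  have h3 : IsDer ⁅X₀, D⁆ := (hW₀ X₀ hX₀).comm hD
  have h4 : (up k k ⁅X₀, D⁆ : Cv k A k) ∈ spanUp k k W₀ := (c.mem_iff (R := k) h3).2 h2
  have h5 := hreg D hD (mem_of_up_mem h4)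
  apply ha
  funext i
  have h6 := c.hz D h5 i
  rw [eval_sum] at h6
  simp_rw [c.vz] at h6
  simpa using h6

omit [IsDomain A] in
lemma det_N (hW₀ : ∀ D ∈ W₀, IsDer D) (hX₀ : X₀ ∈ W₀)
    (hreg : ∀ D : Cv k A k, IsDer D → ⁅X₀, D⁆ ∈ W₀ → D ∈ W₀) : (N c X₀).det ≠ 0 := by
  intro h0
  apply det_ep_N c X₀ hW₀ hX₀ hreg
  rw [← AlgHom.map_det, h0, map_zero]

/-- the bracket with the universal element of the section is injective on the quotient -/
theorem mem_of_lie_mem (hW₀ : ∀ D ∈ W₀, IsDer D) (hsub : ∀ x ∈ W₀, ∀ y ∈ W₀, ⁅x, y⁆ ∈ W₀) (hX₀ : X₀ ∈ W₀)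
    (hreg : ∀ D : Cv k A k, IsDer D → ⁅X₀, D⁆ ∈ W₀ → D ∈ W₀)
    {D : Cv k A (FractionRing A)} (hD : IsDer D)
    (h1 : ⁅cvMap (io k A) (YA c X₀), D⁆ ∈ spanUp k (FractionRing A) W₀) : D ∈ spanUp k (FractionRing A) W₀ := by
  rw [c.mem_iff hD]
  have hdet : ((io k A).mapMatrix (N c X₀)).det ≠ 0 := by
    rw [← AlgHom.map_det]
    change algebraMap A (FractionRing A) _ ≠ 0
    rw [Ne, FaithfulSMul.algebraMap_eq_zero_iff]
    exact det_N c X₀ hW₀ hX₀ hreg
  have h2 : (fun i => D (c.z i)) = 0 := by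
    refine Matrix.eq_zero_of_vecMul_eq_zero hdet ?_
    funext i'
    have h3 := c.zero_of_mem h1 i'
    have h4 : ⁅cvMap (io k A) (YA c X₀), D⁆ =
        ∑ j, D (c.x j) • ⁅cvMap (io k A) (YA c X₀), up k (FractionRing A) (c.b j)⁆ +
        ∑ i, D (c.z i) • ⁅cvMap (io k A) (YA c X₀), up k (FractionRing A) (c.v i)⁆ := by
      conv_lhs => rw [c.dec _ D hD, lie_add, lie_sum', lie_sum']
    have h5 : ∑ j, D (c.x j) • ⁅cvMap (io k A) (YA c X₀), up k (FractionRing A) (c.b j)⁆ ∈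
        spanUp k (FractionRing A) W₀ :=
      Submodule.sum_mem _ fun j _ => Submodule.smul_mem _ _ (lie_mem hsub (mem_YA c X₀ _) (up_mem (c.hb j)))
    rw [h4, add_apply', c.zero_of_mem h5, zero_add, eval_sum] at h3
    rw [Pi.zero_apply, ← h3]
    change ∑ i, D (c.z i) * ((io k A).mapMatrix (N c X₀)) i i' = _
    refine Finset.sum_congr rfl fun i _ => ?_
    rw [AlgHom.mapMatrix_apply, Matrix.map_apply, map_N]
  exact fun i => congrFun h2 i

end

end K198.RatReg
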