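import Groth.Agent.SGA3x.K198.RatCoor

/-!
# The linear section: conjugation by the generic point
-/

set_option autoImplicit false
universe u
open Coalgebra WithConv K197.Rat

namespace K198.RatSect

open K198.RatSpan K198.RatCoor

noncomputable section

section general

variable {k A R : Type u} [Field k] [CommRing A] [HopfAlgebra k A] [CommRing R] [Algebra k R]

/-- `Ad g` as a linear map -/
def AdL (g : Pt k A R) : Cv k A R →ₗ[R] Cv k A R where
  toFun := Ad g
  map_add' := Ad_add g
  map_smul' := Ad_smul g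

lemma Ad_sum (g : Pt k A R) {ι : Type*} (s : Finset ι) (r : ι → R) (D : ι → Cv k A R) :
    Ad g (∑ i ∈ s, r i • D i) = ∑ i ∈ s, r i • Ad g (D i) := by
  change AdL g _ = _
  rw [map_sum]
  exact Finset.sum_congr rfl fun i _ => Ad_smul g _ _

lemma lie_sum' (y : Cv k A R) {ι : Type*} (s : Finset ι) (r : ι → R) (D : ι → Cv k A R) :
    ⁅y, ∑ i ∈ s, r i • D i⁆ = ∑ i ∈ s, r i • ⁅y, D i⁆ := by
  classical
  induction s using Finset.induction_on with
  | empty => rw [Finset.sum_empty, Finset.sum_empty, lie_zero]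
  | insert i t hi ih => rw [Finset.sum_insert hi, Finset.sum_insert hi, lie_add, lie_smul', ih]

lemma eval_sum {ι : Type*} (s : Finset ι) (r : ι → R) (D : ι → Cv k A R) (a : A) :
    (∑ i ∈ s, r i • D i) a = ∑ i ∈ s, r i * D i a := by
  rw [K197.Rat.sum_apply]
  rfl

/-- the universal point -/
def un (k A : Type u) [Field k] [CommRing A] [HopfAlgebra k A] : Pt k A A := toConv (AlgHom.id k A)

lemma cvMap_up (f : A →ₐ[k] R) (Z : Cv k A k) : cvMap f (up k A Z) = up k R Z :=
  cv_ext fun a => f.commutes (Z a)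

lemma cvMap_Ad_un (f : A →ₐ[k] R) (D : Cv k A A) : cvMap f (Ad (un k A) D) = Ad (toConv f : Pt k A R) (cvMap f D) :=
  cvMap_Ad f (un k A) D

/-- the counit -/
abbrev ep (k A : Type u) [Field k] [CommRing A] [HopfAlgebra k A] : A →ₐ[k] k := Bialgebra.counitAlgHom k A

lemma toConv_ep : (toConv (ep k A) : Pt k A k) = 1 := rfl

lemma cvMap_ep_Ad (D : Cv k A A) : cvMap (ep k A) (Ad (un k A) D) = cvMap (ep k A) D := by
  rw [cvMap_Ad_un, toConv_ep, Ad_one]

lemma cvMap_lie {R' : Type u} [CommRing R'] [Algebra k R'] (f : R →ₐ[k] R') (D D' : Cv k A R) :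
    cvMap f ⁅D, D'⁆ = ⁅cvMap f D, cvMap f D'⁆ := by
  rw [lie_eq, lie_eq, map_sub, map_mul, map_mul]

end general

variable {k A : Type u} [Field k] [CommRing A] [IsDomain A] [HopfAlgebra k A]
  {W₀ : Submodule k (Cv k A k)} {h q : ℕ} (c : Coor W₀ h q)

/-- the matrix of the conjugation of `W₀` by the universal point, in coordinates -/
def M : Matrix (Fin h) (Fin h) A := fun j j' => (Ad (un k A) (up k A (c.b j))) (c.x j')

omit [IsDomain A] in
lemma map_M {R : Type u} [CommRing R] [Algebra k R] (f : A →ₐ[k] R) (j j' : Fin h) :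
    f (M c j j') = (Ad (toConv f : Pt k A R) (up k R (c.b j))) (c.x j') := by
  have h1 := cvMap_Ad_un f (up k A (c.b j))
  rw [cvMap_up] at h1
  rw [← h1]
  rfl

omit [IsDomain A] in
lemma ep_M : (ep k A).mapMatrix (M c) = 1 := by
  ext j j'
  rw [AlgHom.mapMatrix_apply, Matrix.map_apply, map_M, toConv_ep, Ad_one, Matrix.one_apply]
  exact c.bx j j'

omit [IsDomain A] in
lemma ep_det : ep k A (M c).det = 1 := by
  rw [AlgHom.map_det, ep_M, Matrix.det_one]

omit [IsDomain A] in
lemma det_ne_zero : (M c).det ≠ 0 := by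
  intro h0
  have h1 := ep_det c
  rw [h0, map_zero] at h1
  exact zero_ne_one h1

/-- the generic point -/
abbrev gn (k A : Type u) [Field k] [CommRing A] [IsDomain A] [HopfAlgebra k A] : Pt k A (FractionRing A) :=
  toConv (IsScalarTower.toAlgHom k A (FractionRing A))

lemma map_M' (j j' : Fin h) :
    algebraMap A (FractionRing A) (M c j j') = (Ad (gn k A) (up k (FractionRing A) (c.b j))) (c.x j') :=
  map_M c (IsScalarTower.toAlgHom k A (FractionRing A)) j j'

/-- the conjugate of the extended subspace meets the linear section trivially -/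
theorem eq_zero_of_coord (hW₀ : ∀ D ∈ W₀, IsDer D) {D : Cv k A (FractionRing A)}
    (hD : D ∈ spanUp k (FractionRing A) W₀) (h0 : ∀ j, (Ad (gn k A) D) (c.x j) = 0) : D = 0 := by
  have h1 := c.dec_of_mem hW₀ hD
  have h2 : (fun j => D (c.x j)) = 0 := by
    have hdet : ((algebraMap A (FractionRing A)).mapMatrix (M c)).det ≠ 0 := by
      rw [← RingHom.map_det, Ne, FaithfulSMul.algebraMap_eq_zero_iff]
      exact det_ne_zero c
    refine Matrix.eq_zero_of_vecMul_eq_zero hdet ?_
    funext j'
    have h3 := h0 j'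
    rw [h1, Ad_sum, eval_sum] at h3
    rw [Pi.zero_apply, ← h3]
    change ∑ j, D (c.x j) * ((algebraMap A (FractionRing A)).mapMatrix (M c)) j j' = _
    refine Finset.sum_congr rfl fun j _ => ?_
    rw [RingHom.mapMatrix_apply, Matrix.map_apply, map_M']
  rw [h1]
  refine Finset.sum_eq_zero fun j _ => ?_
  have h4 : D (c.x j) = 0 := congrFun h2 j
  rw [h4, zero_smul]

end

end K198.RatSect
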