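import Groth.Agent.SGA3x.K197.RatNodes3
import Mathlib.LinearAlgebra.Matrix.ToLinearEquiv
import Mathlib.LinearAlgebra.Dual.Lemmas

/-!
# Convolution calculus: spans of extended subspaces, iterated brackets
-/

set_option autoImplicit false
universe u
open Coalgebra WithConv K197.Rat

namespace K198.RatSpan

noncomputable section

variable {k A : Type u} [Field k] [CommRing A] [HopfAlgebra k A]

section up

variable {E R : Type u} [Field E] [Algebra k E] [CommRing R] [Algebra k R] [Algebra E R] [IsScalarTower k E R]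

lemma clin_smul_up (c : R →ₗ[E] E) (r : R) (Z : Cv k A E) : clin c (r • up E R Z) = c r • Z := by
  refine cv_ext fun a => ?_
  change c (r * algebraMap E R (Z a)) = c r * Z a
  rw [mul_comm, ← Algebra.smul_def, map_smul, smul_eq_mul, mul_comm]

/-- Linear independence is preserved by extension of the field. -/
theorem linearIndependent_up {ι : Type*} {w : ι → Cv k A E} (hw : LinearIndependent E w) :
    LinearIndependent R (fun i => up E R (w i)) := by
  rw [linearIndependent_iff'] at hw ⊢
  intro s g hg i hi
  rw [← Module.forall_dual_apply_eq_zero_iff E]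
  intro c
  refine hw s (fun i => c (g i)) ?_ i hi
  have h1 : clin c (∑ i ∈ s, g i • up E R (w i)) = ∑ i ∈ s, c (g i) • w i := by
    rw [map_sum]
    exact Finset.sum_congr rfl fun i _ => clin_smul_up c _ _
  rw [← h1, hg, map_zero]

variable {W : Submodule E (Cv k A E)}

lemma up_mem {Z : Cv k A E} (hZ : Z ∈ W) : up E R Z ∈ spanUp E R W := Submodule.subset_span ⟨Z, hZ, rfl⟩

lemma isDer_of_mem (hW : ∀ D ∈ W, IsDer D) {D : Cv k A R} (hD : D ∈ spanUp E R W) : IsDer D := by
  have h1 : spanUp E R W ≤ Der k A R := by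
    refine Submodule.span_le.2 ?_
    rintro _ ⟨Z, hZ, rfl⟩
    exact (hW Z hZ).up
  exact h1 hD

lemma clin_mem {D : Cv k A R} (hD : D ∈ spanUp E R W) : ∀ c : R →ₗ[E] E, clin c D ∈ W := by
  induction hD using Submodule.span_induction with
  | mem x hx =>
    intro c
    obtain ⟨Z, hZ, rfl⟩ := hx
    have h1 := clin_smul_up c 1 Z
    rw [one_smul] at h1
    rw [h1]
    exact W.smul_mem _ hZ
  | zero => intro c; rw [map_zero]; exact W.zero_mem
  | add x y _ _ hx hy => intro c; rw [map_add]; exact W.add_mem (hx c) (hy c)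
  | smul r x hx ih =>
    intro c
    have h1 : clin c (r • x) = clin (c.comp (LinearMap.mulLeft E r)) x := rfl
    rw [h1]
    exact ih _

/-- Descent of membership. -/
theorem mem_of_up_mem [Nontrivial R] {D : Cv k A E} (hD : up E R D ∈ spanUp E R W) : D ∈ W := by
  have h0 : LinearMap.ker (Algebra.linearMap E R) = ⊥ :=
    LinearMap.ker_eq_bot.2 (algebraMap E R).injective
  obtain ⟨c, hc⟩ := (Algebra.linearMap E R).exists_leftInverse_of_injective h0
  have h1 := clin_mem hD c
  have h2 : clin c (up E R D) = D := by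
    refine cv_ext fun a => ?_
    exact LinearMap.congr_fun hc (D a)
  rwa [h2] at h1

theorem spanUp_eq_span {ι : Type*} (b : Module.Basis ι E W) :
    spanUp E R W = Submodule.span R (Set.range fun i => up E R (b i).1) := by
  apply le_antisymm
  · refine Submodule.span_le.2 ?_
    rintro _ ⟨Z, hZ, rfl⟩
    have h1 : (⟨Z, hZ⟩ : W) ∈ Submodule.span E (Set.range b) := by rw [b.span_eq]; trivial
    have h2 : ∀ z : W, z ∈ Submodule.span E (Set.range b) →
        up E R z.1 ∈ Submodule.span R (Set.range fun i => up E R (b i).1) := by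
      intro z hz
      induction hz using Submodule.span_induction with
      | mem x hx =>
        obtain ⟨i, rfl⟩ := hx
        exact Submodule.subset_span ⟨i, rfl⟩
      | zero => rw [Submodule.coe_zero, up_zero]; exact Submodule.zero_mem _
      | add x y _ _ hx hy => rw [Submodule.coe_add, up_add]; exact Submodule.add_mem _ hx hy
      | smul r x _ ih => rw [Submodule.coe_smul, up_smul]; exact Submodule.smul_mem _ _ ih
    exact h2 _ h1
  · refine Submodule.span_le.2 ?_
    rintro _ ⟨i, rfl⟩
    exact up_mem (b i).2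

end up

section fields

variable {E R : Type u} [Field E] [Algebra k E] [Field R] [Algebra k R] [Algebra E R] [IsScalarTower k E R]
  {W : Submodule E (Cv k A E)}

theorem finrank_spanUp [FiniteDimensional E W] : Module.finrank R (spanUp E R W) = Module.finrank E W := by
  let b := Module.finBasis E W
  have h1 : LinearIndependent E (fun i => (b i).1) :=
    b.linearIndependent.map' W.subtype (Submodule.ker_subtype W)
  rw [spanUp_eq_span b, finrank_span_eq_card (linearIndependent_up h1), Fintype.card_fin]

theorem finiteDimensional_of_le [Algebra.FiniteType k A] (hW : ∀ D ∈ W, IsDer D) : FiniteDimensional E W := by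
  have h1 : W ≤ Der k A E := hW
  exact Submodule.finiteDimensional_of_le h1

theorem finrank_Ad (g : Pt k A R) (P Q : Submodule R (Cv k A R)) (h : ∀ D, D ∈ Q ↔ ∃ D' ∈ P, D = Ad g D') :
    Module.finrank R Q = Module.finrank R P := by
  let f : Cv k A R →ₗ[R] Cv k A R :=
    { toFun := Ad g
      map_add' := Ad_add g
      map_smul' := Ad_smul g }
  have h1 : Q = P.map f := by
    ext D
    rw [h, Submodule.mem_map]
    exact ⟨fun ⟨D', h1, h2⟩ => ⟨D', h1, h2.symm⟩, fun ⟨D', h1, h2⟩ => ⟨D', h1, h2.symm⟩⟩
  rw [h1]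
  exact (LinearEquiv.finrank_eq (Submodule.equivMapOfInjective f (Ad_injective g) P)).symm

end fields

section kill

variable {R : Type u} [CommRing R] [Algebra k R] {P : Set (Cv k A R)}

lemma smul_lie' (r : R) (x y : Cv k A R) : ⁅r • x, y⁆ = r • ⁅x, y⁆ := by
  rw [lie_eq, lie_eq, smul_mul_assoc, mul_smul_comm, smul_sub]

lemma lie_smul' (r : R) (x y : Cv k A R) : ⁅x, r • y⁆ = r • ⁅x, y⁆ := by
  rw [lie_eq, lie_eq, smul_mul_assoc, mul_smul_comm, smul_sub]

lemma kill_zero (n : ℕ) : Kill P n 0 := by
  induction n with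
  | zero => rfl
  | succ n ih => intro x _; rw [lie_zero]; exact ih

lemma kill_add (n : ℕ) : ∀ y z : Cv k A R, Kill P n y → Kill P n z → Kill P n (y + z) := by
  induction n with
  | zero => intro y z hy hz; change y + z = 0; rw [show y = 0 from hy, show z = 0 from hz, add_zero]
  | succ n ih => intro y z hy hz x hx; rw [lie_add]; exact ih _ _ (hy x hx) (hz x hx)

lemma kill_smul (n : ℕ) (r : R) : ∀ y : Cv k A R, Kill P n y → Kill P n (r • y) := by
  induction n with
  | zero => intro y hy; change r • y = 0; rw [show y = 0 from hy, smul_zero]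
  | succ n ih => intro y hy x hx; rw [lie_smul']; exact ih _ (hy x hx)

variable {E : Type u} [CommRing E] [Algebra k E] [Algebra E R] [IsScalarTower k E R] {W : Submodule E (Cv k A E)}

lemma kill_up (n : ℕ) : ∀ Z : Cv k A E, Kill (W : Set (Cv k A E)) n Z →
    Kill (spanUp E R W : Set (Cv k A R)) n (up E R Z) := by
  induction n with
  | zero => intro Z hZ; change up E R Z = 0; rw [show Z = 0 from hZ, up_zero]
  | succ n ih =>
    intro Z hZ x hx
    change x ∈ Submodule.span R _ at hx
    induction hx using Submodule.span_induction with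
    | mem x hx =>
      obtain ⟨x₀, hx₀, rfl⟩ := hx
      rw [← up_lie]
      exact ih _ (hZ x₀ hx₀)
    | zero => rw [zero_lie]; exact kill_zero n
    | add x y _ _ hx hy => rw [add_lie]; exact kill_add n _ _ hx hy
    | smul r x _ ih' => rw [smul_lie']; exact kill_smul n r _ ih'

lemma kill_spanUp (n : ℕ) (h : ∀ Z ∈ W, Kill (W : Set (Cv k A E)) n Z) {Y : Cv k A R} (hY : Y ∈ spanUp E R W) :
    Kill (spanUp E R W : Set (Cv k A R)) n Y := by
  change Y ∈ Submodule.span R _ at hY
  induction hY using Submodule.span_induction with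
  | mem x hx =>
    obtain ⟨x₀, hx₀, rfl⟩ := hx
    exact kill_up n _ (h x₀ hx₀)
  | zero => exact kill_zero n
  | add x y _ _ hx hy => exact kill_add n _ _ hx hy
  | smul r x _ ih' => exact kill_smul n r _ ih'

omit [CommRing E] [Algebra k E] [Algebra E R] [IsScalarTower k E R] in
lemma kill_Ad (g : Pt k A R) {P Q : Set (Cv k A R)} (h : ∀ D, D ∈ Q ↔ ∃ D' ∈ P, D = Ad g D') (n : ℕ) :
    ∀ Y, Kill P n Y → Kill Q n (Ad g Y) := by
  induction n with
  | zero => intro Y hY; change Ad g Y = 0; rw [show Y = 0 from hY, Ad_zero]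
  | succ n ih =>
    intro Y hY x hx
    obtain ⟨x', hx', rfl⟩ := (h x).1 hx
    rw [← Ad_lie]
    exact ih _ (hY x' hx')

/-- the iterated bracket -/
def adn (y : Cv k A R) (n : ℕ) (D : Cv k A R) : Cv k A R := (fun D => ⁅y, D⁆)^[n] D

omit [CommRing E] [Algebra k E] [Algebra E R] [IsScalarTower k E R] in
lemma adn_zero (y D : Cv k A R) : adn y 0 D = D := rfl

omit [CommRing E] [Algebra k E] [Algebra E R] [IsScalarTower k E R] in
lemma adn_succ (y : Cv k A R) (n : ℕ) (D : Cv k A R) : adn y (n + 1) D = adn y n ⁅y, D⁆ := rfl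

omit [CommRing E] [Algebra k E] [Algebra E R] [IsScalarTower k E R] in
lemma adn_succ' (y : Cv k A R) (n : ℕ) (D : Cv k A R) : adn y (n + 1) D = ⁅y, adn y n D⁆ :=
  Function.iterate_succ_apply' _ _ _

omit [CommRing E] [Algebra k E] [Algebra E R] [IsScalarTower k E R] in
lemma adn_add (y : Cv k A R) (n : ℕ) (D D' : Cv k A R) : adn y n (D + D') = adn y n D + adn y n D' := by
  induction n generalizing D D' with
  | zero => rfl
  | succ n ih => rw [adn_succ, adn_succ, adn_succ, lie_add, ih]

omit [CommRing E] [Algebra k E] [Algebra E R] [IsScalarTower k E R] in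
lemma adn_smul (y : Cv k A R) (n : ℕ) (r : R) (D : Cv k A R) : adn y n (r • D) = r • adn y n D := by
  induction n generalizing D with
  | zero => rfl
  | succ n ih => rw [adn_succ, adn_succ, lie_smul', ih]

omit [CommRing E] [Algebra k E] [Algebra E R] [IsScalarTower k E R] in
lemma adn_of_zero (y : Cv k A R) (n : ℕ) : adn y n 0 = 0 := by
  induction n with
  | zero => rfl
  | succ n ih => rw [adn_succ, lie_zero, ih]

omit [CommRing E] [Algebra k E] [Algebra E R] [IsScalarTower k E R] in
lemma adn_of_kill {y : Cv k A R} (hy : y ∈ P) (n : ℕ) : ∀ D, Kill P n D → adn y n D = 0 := by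
  induction n with
  | zero => intro D hD; exact hD
  | succ n ih => intro D hD; exact ih _ (hD y hy)

lemma up_adn (y : Cv k A E) (n : ℕ) (D : Cv k A E) : (up E R (adn y n D) : Cv k A R) = adn (up E R y) n (up E R D) := by
  induction n generalizing D with
  | zero => rfl
  | succ n ih => rw [adn_succ, adn_succ, ih, up_lie]

lemma clin_adn (c : R →ₗ[E] E) (y : Cv k A E) (n : ℕ) (D : Cv k A R) :
    clin c (adn (up E R y) n D) = adn y n (clin c D) := by
  induction n generalizing D with
  | zero => rfl
  | succ n ih => rw [adn_succ, adn_succ, ih, clin_up_lie, up_self]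

end kill

end

end K198.RatSpan
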